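import Groth.Agent.S9392

universe u

namespace H1N2

theorem isN2_of_ringEquiv {R S : Type u} [CommRing R] [IsDomain R] [CommRing S] [IsDomain S] (e : R ≃+* S)
    (h : CAlg.IsN2 R) : CAlg.IsN2 S := by
  letI : Algebra R S := e.toRingHom.toAlgebra
  haveI : IsLocalization (⊥ : Submonoid R) R := IsLocalization.self bot_le
  haveI : IsLocalization (⊥ : Submonoid R) S :=
    IsLocalization.isLocalization_of_algEquiv _ (AlgEquiv.ofRingEquiv (f := e) fun x => rfl)
  exact Groth.Agent.S9392.result R (⊥ : Submonoid R) S h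

theorem isN2_of_isNagata {R : Type u} [CommRing R] [IsDomain R] (h : CAlg.IsNagata R) : CAlg.IsN2 R :=
  isN2_of_ringEquiv (RingEquiv.quotientBot R) (h.2 ⊥)

end H1N2
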